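import Mathlib
import Cfsg.Agent.Lib.ZJ.FSection
import Cfsg.Agent.Lib.ZJ.SFour
import Cfsg.Agent.Lib.Fusion.HSec
import Cfsg.Agent.Lib.PSL2Rec.Basic

/-!
# Local configurations producing `F(p)` and an eigenvalue on `Z(J(S))`
-/

set_option autoImplicit false

namespace CfsgLib.ZJ

open Cfsg Subgroup CfsgLib.Tech CfsgLib.CFun CfsgLib.PLocal Matrix
open scoped commutatorElement MatrixGroups

variable {p : ℕ} [hp : Fact p.Prime] {G : Type*} [Group G]

omit hp in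
theorem Eig.mono {K K' Y Y' : Subgroup G} (h : Eig p K Y) (hK : K ≤ K') (hY : Y ≤ Y') : Eig p K' Y' :=
  h.push (f := MonoidHom.id G) Function.injective_id hK hY

omit hp in
theorem BorelSec.mono {K K' B B' : Subgroup G} (h : BorelSec p K B) (hK : K ≤ K') (hB : B ≤ B') :
    BorelSec p K' B' :=
  h.push (f := MonoidHom.id G) Function.injective_id hK hB

variable [Finite G]

theorem UMax.concl_zj (hp2 : p ≠ 2) (S : Sylow p G) (h : UMax p ⊤ S 𝐍(zj 0 (S : Subgroup G)))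
    (hZ : zj 0 (S : Subgroup G) ≤ pCore p G) :
    Eig p 𝐍(zj 0 (S : Subgroup G)) (zj 0 S) ∧ BorelSec p 𝐍(zj 0 (S : Subgroup G)) S := by
  by_contra hcon
  have hOS := Core.pCore_le_sylow S
  have := inf_normal_of_step (elemAb_zj (e := 0) (S : Subgroup G)).1 (hOS.trans h.le) ?_ _
    (Core.isPGroup_pCore p G)
  · rw [inf_eq_left.2 hZ] at this
    exact h.not_le le_normalizer_of_normal
  intro B _ hB hcl hder _ _
  by_contra hn
  have hBS : B ≤ S := (Core.le_pCore hB).trans hOS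
  obtain ⟨A, hA, -, hBA, hBN⟩ := replacement_property hp2 (Or.inr rfl) S.isPGroup' le_rfl le_normalizer
    hBS le_normalizer_of_normal (e := 0) (by
      by_contra h1
      push Not at h1
      have : B ≤ zj 0 (S : Subgroup G) := by
        rw [← sInf_maxElemIn]
        exact le_sInf fun A hA => h1 A hA (hder.trans (zj_le_of_mem hA))
      rw [inf_eq_right.2 this] at hn
      exact hn inferInstance)
  have hN : 𝐍(zj 0 (S : Subgroup G)) ≤ 𝐍(zj 0 (S : Subgroup G) ⊓ B) :=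
    (le_inf le_rfl le_normalizer_of_normal).trans inf_normalizer_le_normalizer_inf
  set L := (𝐍(zj 0 (S : Subgroup G) ⊓ B)).normalCore with hL
  by_cases hAL : A ≤ L
  · have := normalClosure_le_of_frattini S L (normalCore_le _) (X := zj 0 ((S : Subgroup G) ⊓ L))
      (inf_le_left.trans (by
        rw [← sInf_maxElemIn, ← sInf_maxElemIn, ← setOf_maxElemIn_le hA hAL]
        exact sInf_le_sInf fun A hA => hA.1)) (normalizer_le_normalizer_zj _)
    rw [hcl] at this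
    refine hBA (this.trans (zj_le_of_mem ?_))
    rw [← setOf_maxElemIn_le hA hAL]
    exact ⟨hA, hAL⟩
  · obtain ⟨a, ha, haL⟩ := SetLike.not_le_iff_exists.1 hAL
    obtain ⟨h1, h2⟩ := h.concl_top hp2 hB inf_le_right hN hn (hA.1 ha)
      (fun e => haL (normal_le_normalCore.2 (hOS.trans (h.le.trans hN)) e))
      (quadratic_mono (quadratic_of_le_normalizer hA.2.1.1 hBN) (zpowers_le.2 ha))
    exact hcon ⟨h1.mono le_rfl inf_le_left, h2.mono le_rfl hBS⟩

theorem UMax.concl_of_not_le (hp2 : p ≠ 2) {P R M Q Z : Subgroup G} (h : UMax p P R M)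
    (hQ : pCoreOf p P = Q) (hC : P ⊓ 𝐂(Q) ≤ M) (hZ : IsMulCommutative Z) (hQZ : Q ≤ 𝐍(Z))
    (hM : P ⊓ M ≤ 𝐍(Z ⊓ Q)) {a : G} (haZ : a ∈ Z) (haR : a ∈ R) (haQ : a ∉ Q) :
    Eig p (P ⊓ M) (Z ⊓ Q) ∧ BorelSec p (P ⊓ M) Q := by
  have hQp : IsPGroup p Q := hQ ▸ LAE.isPGroup_pCoreOf P
  have hPQ : P ≤ 𝐍(Q) := hQ ▸ LAE.le_normalizer_pCoreOf P
  refine h.concl hp2 hQp (hQ ▸ LAE.pCoreOf_le P) hPQ inf_le_right hM (fun hP => ?_) haR (hQ ▸ haQ)
    (quadratic_mono (quadratic_of_le_normalizer hZ hQZ) (zpowers_le.2 haZ))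
  let K : Subgroup G :=
    { carrier := {g | g ∈ P ∧ ∀ u ∈ Q, g * u * g⁻¹ * u⁻¹ ∈ Z ⊓ Q}
      one_mem' := ⟨one_mem _, fun u _ => by simp⟩
      mul_mem' := fun {x y} hx hy => ⟨mul_mem hx.1 hy.1, fun u hu => by
        convert mul_mem (conj_mem_of_mem_normalizer (hP hx.1) (hy.2 u hu)) (hx.2 u hu) using 1
        group⟩
      inv_mem' := fun {x} hx => ⟨inv_mem hx.1, fun u hu => by
        convert conj_mem_of_mem_normalizer' (hP hx.1) (inv_mem (hx.2 u hu)) using 1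
        group⟩ }
  have hK : P ≤ 𝐍(K ⊓ 𝐂(Z ⊓ Q)) := by
    refine le_trans ?_ inf_normalizer_le_normalizer_inf
    refine le_inf (fun g hg => mem_normalizer_of_forall fun x hx => ?_)
      (hP.trans (Core.normalizer_le_normalizer_centralizer _))
    refine ⟨mul_mem (mul_mem hg hx.1) (inv_mem hg), fun u hu => ?_⟩
    convert conj_mem_of_mem_normalizer (hP hg) (hx.2 _ (conj_mem_of_mem_normalizer' (hPQ hg) hu)) using 1
    group
  have hKP : K ⊓ 𝐂(Z ⊓ Q) ≤ P := fun g hg => hg.1.1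
  have h1 := h.syl.inf_of_le_normalizer hK
  obtain ⟨k, hk⟩ := hQp.exists_card_eq
  have h2 := le_sup_of_pow_mem (E := P ⊓ 𝐂(Q)) h1 (inf_le_left.trans ((le_inf le_normalizer
    (hPQ.trans (Core.normalizer_le_normalizer_centralizer _))).trans inf_normalizer_le_normalizer_inf))
    fun g hg => ⟨k, pow_mem hg.1 _, fun u hu => (pow_mem_centralizer_of_stab hg.2.2 (fun v hv => by
      rw [← hk]; exact congrArg Subtype.val (pow_card_eq_one' (x := (⟨v, hv.2⟩ : Q))))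
      (hg.2.1.2 u hu)).symm⟩
  refine haQ (hQ ▸ h.inf_le_pCoreOf hK (h2.trans (sup_le hC (inf_le_left.trans h.le)))
    ⟨haR, ⟨h.syl.le haR, fun u hu => ⟨?_, ?_⟩⟩, fun z hz => mul_comm_of_isMulCommutative hZ hz.1 haZ⟩)
  · rw [mul_assoc, mul_assoc]
    exact Z.mul_mem haZ (by
      rw [← mul_assoc]; exact conj_mem_of_mem_normalizer (hQZ hu) (Z.inv_mem haZ))
  · exact Q.mul_mem (conj_mem_of_mem_normalizer (hPQ (h.syl.le haR)) hu) (Q.inv_mem hu)

theorem UMax.thompson_le_or (hp2 : p ≠ 2) {P R M V Y : Subgroup G} (h : UMax p P R M)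
    (hV : IsElementaryAbelian p V) (hVR : V ≤ R) (hPV : P ≤ 𝐍(V)) (hO : pCoreOf p P ≤ 𝐂(V))
    (hYV : Y ≤ V) (hM : P ⊓ M ≤ 𝐍(Y)) (hY : ¬ P ≤ 𝐍(Y)) :
    thompsonSubgroupOf 0 R ≤ pCoreOf p P ∨ (Eig p (P ⊓ M) Y ∧ BorelSec p (P ⊓ M) V) := by
  by_cases hJ : thompsonSubgroupOf 0 R ≤ 𝐂(V)
  · exact Or.inl ((le_inf (thompsonSubgroupOf_le R) hJ).trans (h.inf_le_pCoreOf
      (hPV.trans (Core.normalizer_le_normalizer_centralizer _)) ((inf_le_inf_left P
      ((cent_anti hYV).trans (cent_le_norm Y))).trans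
      (h.le_of_not_le ((le_inf h.syl.le h.le).trans hM) hY))))
  right
  rw [thompsonSubgroupOf_le_iff] at hJ
  push Not at hJ
  obtain ⟨A, hA, hne⟩ := hJ
  rw [le_centralizer_iff, ← commutator_eq_bot_iff_le_centralizer] at hne
  obtain ⟨B, hBA, -, h2, h3⟩ := exists_bestOffender_of_zero hV (hA.1.trans (h.syl.le.trans hPV))
    (h.syl.pgroup.to_le hA.1) (bestOffender_of_mem_maxElemIn (elemAb_zero_iff.2 hV.1) hVR hA) hne
  rw [Ne, commutator_eq_bot_iff_le_centralizer, ← le_centralizer_iff] at h2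
  obtain ⟨b, hb, hb'⟩ := SetLike.not_le_iff_exists.1 h2
  exact h.concl hp2 (elemAb_isPGroup hV) (hVR.trans h.syl.le) hPV hYV hM hY (hA.1 (hBA hb))
    (fun e => hb' (hO e)) (quadratic_mono h3 (zpowers_le.2 hb))

theorem Eig.exists_prime {H Z : Subgroup G} (h : Eig p H Z) (hH : H ≤ 𝐍(Z)) (hZ : IsMulCommutative Z)
    (hZp : IsPGroup p Z) : ∃ C : Subgroup G, C ≤ Z ∧ Nat.card C = p ∧
      (H ⊓ 𝐂(C)).relIndex (H ⊓ 𝐍(C)) = p - 1 := by
  obtain ⟨h, hh, n, hn, Y₂, h1, y, hy, h2, h3⟩ := h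
  have hc := fun (z : Z) => conj_mem_of_mem_normalizer (hH hh) z.2
  let ψ : Z →* G := MonoidHom.mk' (fun z => h * z * h⁻¹ * ((z : G) ^ n)⁻¹) fun z w => by
    have e1 : Commute (z : G) w := mul_comm_of_isMulCommutative hZ z.2 w.2
    have e2 := mul_comm_of_isMulCommutative hZ (Z.inv_mem (Z.pow_mem z.2 n))
      (Z.mul_mem (hc w) (Z.inv_mem (Z.pow_mem w.2 n)))
    rw [coe_mul, e1.mul_pow, mul_assoc (h * z * h⁻¹), e2]
    group
  obtain ⟨c, hc1, hc2⟩ : ∃ c : Z, ψ c = 1 ∧ c ≠ 1 := by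
    by_contra h4
    push Not at h4
    have h5 := (injective_iff_map_eq_one ψ).2 h4
    let θ : ↥(Z ⊓ Y₂) → ↥(Z ⊓ Y₂) := fun z => ⟨ψ ⟨z, z.2.1⟩, Z.mul_mem (hc ⟨z, z.2.1⟩)
      (Z.inv_mem (Z.pow_mem z.2.1 n)), Y₂.mul_mem (h1 _ z.2.2) (Y₂.inv_mem (Y₂.pow_mem z.2.2 n))⟩
    obtain ⟨z, hz⟩ := Finite.injective_iff_surjective.1 (fun z w e => Subtype.ext
      (congrArg Z.subtype (h5 (congrArg Subtype.val e))) : Function.Injective θ)
      ⟨ψ ⟨y, hy⟩, Z.mul_mem (hc ⟨y, hy⟩) (Z.inv_mem (Z.pow_mem hy n)), h3⟩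
    exact h2 ((show (z : G) = y from congrArg Z.subtype (h5 (congrArg Subtype.val hz))) ▸ z.2.2)
  obtain ⟨x, ⟨k, rfl⟩, hx⟩ := Core.exists_mem_orderOf_eq_of_isPGroup
    (isPGroup_zpowers_of_mem hZp c.2) (by rwa [Ne, zpowers_eq_bot, OneMemClass.coe_eq_one])
  set x := (c : G) ^ k with hxd
  have h4 : h * x * h⁻¹ = x ^ n := by
    rw [hxd, ← conj_zpow, mul_inv_eq_one.1 hc1, ← _root_.zpow_natCast, ← _root_.zpow_natCast,
      ← _root_.zpow_mul, ← _root_.zpow_mul, mul_comm]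
  have h5 : ∀ m : ℕ, h ^ m * x * (h ^ m)⁻¹ = x ^ n ^ m := fun m => by
    induction m with
    | zero => simp
    | succ m ih => rw [pow_succ' n, pow_mul, ← h4, conj_pow, ← ih, pow_succ']; group
  have hC : Nat.card (zpowers x) = p := by rw [Nat.card_zpowers]; exact hx
  have hN : h ∈ 𝐍(zpowers x) := mem_normalizer_of_forall (by
    rintro _ ⟨j, rfl⟩
    simp only [← conj_zpow, h4]
    exact zpow_mem (pow_mem (mem_zpowers x) n) j)
  refine ⟨zpowers x, zpowers_le.2 (zpow_mem c.2 k), hC, Nat.dvd_antisymm ?_ ?_⟩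
  · refine Dvd.dvd.trans ?_ (PSL2Rec.relIndex_centralizer_dvd_of_prime _ hC)
    have := relIndex_dvd_index_of_normal ((𝐂(zpowers x)).subgroupOf 𝐍(zpowers x))
      ((H ⊓ 𝐍(zpowers x)).subgroupOf _)
    rwa [relIndex_subgroupOf inf_le_right, ← inf_relIndex_right, inf_left_comm,
      inf_eq_left.2 (cent_le_norm _), ← inf_eq_left.2 (inf_le_inf_left H (cent_le_norm (zpowers x))),
      inf_relIndex_right] at this
  · have hn' : ((H ⊓ 𝐂(zpowers x)).subgroupOf (H ⊓ 𝐍(zpowers x))).Normal :=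
      normal_subgroupOf_of_le_normalizer ((inf_le_inf le_normalizer
        (Core.normalizer_le_normalizer_centralizer _)).trans inf_normalizer_le_normalizer_inf)
    have h6 := mem_cent_iff.1 (pow_index_mem (H := (H ⊓ 𝐂(zpowers x)).subgroupOf (H ⊓ 𝐍(zpowers x)))
      ⟨h, hh, hN⟩).2 x (mem_zpowers x)
    rw [← hn, orderOf_dvd_iff_pow_eq_one, ← Nat.cast_pow, ← Nat.cast_one, ZMod.natCast_eq_natCast_iff,
      ← hx, ← pow_eq_pow_iff_modEq, pow_one, ← h5]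
    exact h6

/-- The upper triangular matrices in `SL₂(p)`. -/
def borelSL (p : ℕ) : Subgroup SL(2, ZMod p) where
  carrier := {A | A.1 1 0 = 0}
  one_mem' := by simp
  mul_mem' := fun {A B} hA hB => by
    have hA' : A.1 1 0 = 0 := hA
    have hB' : B.1 1 0 = 0 := hB
    simp [Matrix.mul_apply, Fin.sum_univ_two, hA', hB']
  inv_mem' := fun {A} hA => by
    have hA' : A.1 1 0 = 0 := hA
    simp [adjugate_fin_two, hA']

theorem fOver_eq : fOver (ZMod p) = ((borelSL p).comap (qdLin p)).map (qd p).subtype := by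
  apply le_antisymm
  · rw [fOver, closure_le]
    intro M hM
    obtain ⟨A, e, h⟩ := exists_qdMk ⟨M, subset_closure hM.2⟩
    refine ⟨qdMk A e, ?_, congrArg (qd p).subtype h.symm⟩
    rw [SetLike.mem_coe, mem_comap, qdLin_qdMk]
    exact (congrArg (fun M : qd p => M.1.1 1 0) h).symm.trans hM.1
  · rintro _ ⟨M, hM, rfl⟩
    obtain ⟨A, e, rfl⟩ := exists_qdMk M
    rw [SetLike.mem_coe, mem_comap, qdLin_qdMk] at hM
    exact subset_closure ⟨hM, rfl, rfl, rfl⟩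

omit hp in
theorem qdMk_conj_transl (A : SL(2, ZMod p)) (e v : Fin 2 → ZMod p) :
    qdMk A e * qdMk 1 v * (qdMk A e)⁻¹ = qdMk 1 (A.1 *ᵥ v) := by
  rw [mul_inv_eq_iff_eq_mul, qdMk_mul, qdMk_mul, mul_one, one_mul, Matrix.SpecialLinearGroup.coe_one,
    one_mulVec, add_comm]

theorem affType_borel (hp2 : p ≠ 2) :
    Fusion.AffType p ((qdLin p).ker.subgroupOf ((borelSL p).comap (qdLin p))) := by
  have : Fact (Even (Fintype.card (Fin 2))) := ⟨by simp⟩
  set F := (borelSL p).comap (qdLin p) with hF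
  let σ : SL(2, ZMod p) →* qd p := MonoidHom.mk' (fun A => qdMk A 0) fun A B => by
    rw [qdMk_mul, mulVec_zero, add_zero]
  have hk : ∀ v, qdMk 1 v ∈ F := fun v => by rw [hF, mem_comap, qdLin_qdMk]; exact one_mem _
  let t : F := ⟨σ (-1), by
    rw [hF, mem_comap]; change qdLin p (qdMk _ _) ∈ _; rw [qdLin_qdMk]; change (-1 : SL(2, ZMod p)).1 1 0 = 0
    simp⟩
  refine ⟨inferInstance, inferInstance, ?_, isPGroup_ker_qdLin.comap_of_injective _ F.subtype_injective,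
    σ.range.subgroupOf F, zpowers t, 2, Nat.prime_two, hp2.symm, ?_, ?_, zpowers_le.2 ⟨_, rfl⟩, ?_,
    Fusion.hsec_isPGroup_zpowers (Subtype.ext ?_), ?_⟩
  · rintro ⟨a, ha'⟩ ha ⟨b, hb'⟩ hb
    obtain ⟨e, rfl⟩ := mem_ker_qdLin.1 ha
    obtain ⟨f, rfl⟩ := mem_ker_qdLin.1 hb
    refine Subtype.ext ?_
    simp only [coe_mul, qdMk_mul, Matrix.SpecialLinearGroup.coe_one, one_mulVec, add_comm]
  · refine eq_top_iff.2 ?_
    rintro ⟨M, hM⟩ -
    obtain ⟨A, e, rfl⟩ := exists_qdMk M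
    have h1 : qdMk A 0 ∈ F := by rw [hF, mem_comap, qdLin_qdMk] at hM ⊢; exact hM
    have : (⟨qdMk A e, hM⟩ : F) = ⟨_, hk e⟩ * ⟨_, h1⟩ := Subtype.ext (by
      rw [coe_mul, qdMk_mul, one_mul, mulVec_zero, add_zero])
    rw [this]
    exact mul_mem_sup (mem_ker_qdLin.2 ⟨e, rfl⟩) ⟨A, rfl⟩
  · rintro ⟨_, hM⟩ ⟨A, rfl⟩ h
    have : A = 1 := Subtype.ext (Matrix.ext_iff_mulVec.2 fun v => by
      have h1 := congrArg Subtype.val (h ⟨_, hk v⟩ (mem_ker_qdLin.2 ⟨v, rfl⟩))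
      rw [Matrix.SpecialLinearGroup.coe_one, one_mulVec]
      exact (qdMk_inj ((qdMk_conj_transl A 0 v).symm.trans h1)).2)
    subst this
    exact Subtype.ext (map_one σ)
  · rintro ⟨_, hM⟩ ⟨A, rfl⟩
    refine Fusion.hsec_mem_normalizer_zpowers ?_
    rw [show (⟨_, hM⟩ * t * (⟨_, hM⟩ : F)⁻¹ : F) = t from Subtype.ext (by
      change σ A * σ (-1) * (σ A)⁻¹ = σ (-1)
      rw [← map_inv, ← map_mul, ← map_mul]; simp)]
    exact mem_zpowers t
  · change σ (-1) ^ 2 = 1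
    rw [← map_pow]; simp
  · rintro ⟨M, hM⟩ hv h
    obtain ⟨v, rfl⟩ := mem_ker_qdLin.1 hv
    have h1 := (qdMk_inj ((qdMk_conj_transl (-1) 0 v).symm.trans
      (congrArg Subtype.val (h t (mem_zpowers t))))).2
    have : v = 0 := by
      ext i
      have h2 := congrFun h1 i
      simp only [Matrix.SpecialLinearGroup.coe_neg, Matrix.SpecialLinearGroup.coe_one, neg_mulVec,
        one_mulVec, Pi.neg_apply] at h2
      have h3 : (2 : ZMod p) * v i = 0 := by linear_combination -h2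
      exact (mul_eq_zero.1 h3).resolve_left (two_ne_zero_of_charP hp2 _)
    subst this
    exact Subtype.ext qdMk_one

theorem BorelSec.involves (hp2 : p ≠ 2) {H B : Subgroup G} (h : BorelSec p H B) (hBH : B ≤ H)
    (hB : IsPGroup p B) : Involves (fOver (ZMod p)) H := by
  obtain ⟨D, π, h1, h2, h3, h4⟩ := h
  have hk : ∀ v, qdMk 1 v ∈ (borelSL p).comap (qdLin p) := fun v => by
    rw [mem_comap, qdLin_qdMk]; exact one_mem _
  rw [fOver_eq, ← Fusion.hsec_involves_congr (equivMapOfInjective _ _ (qd p).subtype_injective)]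
  have hπ : Fusion.IsHomOn (D.subgroupOf H)
      (fun x => (⟨qdMk 1 (π x), hk _⟩ : (borelSL p).comap (qdLin p))) := fun x hx y hy =>
    Subtype.ext (by
      change qdMk 1 (π (x * y)) = qdMk 1 _ * qdMk 1 _
      rw [qdMk_mul, one_mul, h2 x hx y hy, Matrix.SpecialLinearGroup.coe_one, one_mulVec])
  refine (affType_borel hp2).involves_of_gSec ⟨D.subgroupOf H, _,
    (hB.to_le h1).comap_of_injective _ H.subtype_injective, hπ, ?_, ?_⟩
  · ext ⟨M, hM⟩
    rw [hπ.mem_img, mem_subgroupOf, mem_ker_qdLin]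
    constructor
    · rintro ⟨x, -, e⟩
      exact ⟨_, (congrArg Subtype.val e).symm⟩
    · rintro ⟨e, rfl⟩
      obtain ⟨x, hx, rfl⟩ := h3 e
      exact ⟨⟨x, hBH (h1 hx)⟩, hx, rfl⟩
  · rintro ⟨M, hM⟩
    obtain ⟨A, e, rfl⟩ := exists_qdMk M
    obtain ⟨g, hg, h5⟩ := h4 A (by rwa [mem_comap, qdLin_qdMk] at hM)
    refine ⟨⟨g, hg⟩, mem_normalizer_of_forall fun x hx => (h5 x hx).1, fun x hx => Subtype.ext ?_⟩
    exact (congrArg _ (h5 x hx).2).trans (qdMk_conj_transl A e _).symm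

end CfsgLib.ZJ
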