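import Mathlib
import Cfsg.Agent.Lib.ZJ.FpLocal
import Cfsg.Agent.Lib.CFun.Functor
import Cfsg.Agent.Lib.Transfer.NPCReduction

/-!
# If `Z(J(S))` does not control strong fusion then `F(p)` is involved in its normalizer
-/

set_option autoImplicit false

namespace CfsgLib.ZJ

open Cfsg Subgroup CfsgLib.Tech CfsgLib.CFun CfsgLib.PLocal

universe u

variable {p : ℕ} {G : Type*} [Group G]

/-- `g` acts on `T` like an element of `H`. -/
def ActsAs (H T : Subgroup G) (g : G) : Prop := ∃ h ∈ H, ∀ t ∈ T, h * t * h⁻¹ = g * t * g⁻¹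

namespace ActsAs

variable {H T U : Subgroup G} {a b : G}

theorem of_mem (h : a ∈ H) : ActsAs H T a := ⟨a, h, fun _ _ => rfl⟩

theorem mono (h : ActsAs H U a) (hT : T ≤ U) : ActsAs H T a :=
  h.imp fun _ h => ⟨h.1, fun t ht => h.2 t (hT ht)⟩

theorem mul (ha : ActsAs H T a) (hb : ActsAs H (cj a T) b) : ActsAs H T (b * a) := by
  obtain ⟨x, hx, h1⟩ := ha
  obtain ⟨y, hy, h2⟩ := hb
  refine ⟨y * x, mul_mem hy hx, fun t ht => ?_⟩
  calc _ = y * (x * t * x⁻¹) * y⁻¹ := by group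
    _ = _ := by rw [h1 t ht, h2 _ (conj_mem_cj.2 ht)]; group

theorem inv (ha : ActsAs H T a) : ActsAs H (cj a T) a⁻¹ := by
  obtain ⟨x, hx, h1⟩ := ha
  refine ⟨x⁻¹, inv_mem hx, fun t ht => ?_⟩
  have := h1 _ (mem_cj.1 ht)
  calc _ = x⁻¹ * (a * (a⁻¹ * t * a) * a⁻¹) * x := by group
    _ = _ := by rw [← this]; group

theorem mem_normalizer [Finite G] (h : ActsAs 𝐍(U) T a) (hU : U ≤ T) : a ∈ 𝐍(U) := by
  obtain ⟨x, hx, h1⟩ := h
  exact mem_normalizer_of_forall fun t ht => h1 t (hU ht) ▸ conj_mem_of_mem_normalizer hx ht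

end ActsAs

/-- The elements of `N(Q)` acting on `Q` like elements of `H`. -/
def actSub (H Q : Subgroup G) : Subgroup G where
  carrier := {g | g ∈ 𝐍(Q) ∧ ActsAs H Q g}
  one_mem' := ⟨one_mem _, .of_mem (one_mem _)⟩
  mul_mem' := fun {a b} ha hb => ⟨mul_mem ha.1 hb.1, hb.2.mul (by rw [cj_eq_of_mem_norm hb.1]; exact ha.2)⟩
  inv_mem' := fun {a} ha => ⟨inv_mem ha.1, by simpa only [cj_eq_of_mem_norm ha.1] using ha.2.inv⟩

/-- The conclusion of the theorem, in terms of sections. -/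
def FpConcl (p : ℕ) (Z : Subgroup G) : Prop :=
  Eig p 𝐍(Z) Z ∧ ∃ B ≤ 𝐍(Z), IsPGroup p B ∧ BorelSec p 𝐍(Z) B

variable [hp : Fact p.Prime] [Finite G]

theorem exists_mem_normalizer_of_not_le {S Q D : Subgroup G} (hS : IsPGroup p S) (hQ : Q ≤ S)
    (hD : D ≤ S) (hQD : Q ≤ 𝐍(D)) (h : ¬ D ≤ Q) : ∃ d ∈ D, d ∉ Q ∧ d ∈ 𝐍(Q) := by
  obtain ⟨x, hx, h1, h2⟩ := exists_mem_normalizer_of_lt (hS.to_le (sup_le hQ hD)) (left_lt_sup.2 h)
  obtain ⟨q, hq, d, hd, rfl⟩ := (mem_sup_of_le_normalizer hQD).1 hx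
  exact ⟨d, hd, fun e => h1 (mul_mem hq e), by simpa using mul_mem (inv_mem (le_normalizer hq)) h2⟩

theorem le_of_sylow_centralizer {T T₁ C : Subgroup G} (h : IsSylowIn p T₁ 𝐂(T)) (hT : T₁ ≤ T)
    (hC : C ≤ 𝐂(T)) (hCp : IsPGroup p C) : C ≤ T := by
  obtain ⟨c, hc, h1⟩ := h.exists_cj_le hCp hC
  intro x hx
  simpa [mul_assoc] using conj_mem_of_mem_normalizer' (cent_le_norm T hc) (hT (h1 (conj_mem_cj.2 hx)))

theorem UMax.map {P R M : Subgroup G} (h : UMax p P R M) {G' : Type*} [Group G'] {f : G →* G'}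
    (hf : f.ker ≤ R) : UMax p (P.map f) (R.map f) ((P ⊓ M).map f) where
  syl := sylIn_map h.syl f
  le := map_mono (le_inf h.syl.le h.le)
  not_le := fun e => h.not_le (by
    rw [map_le_iff_le_comap, comap_map_eq_self (hf.trans (le_inf h.syl.le h.le))] at e
    exact e.trans inf_le_right)
  max := fun X h1 h2 x hx => by
    obtain ⟨y, hy, rfl⟩ := h2.le hx
    exact ⟨y, ⟨hy, h.le_of_not_le (map_le_iff_le_comap.1 h1)
      (fun e => h2.not_ge (map_le_iff_le_comap.2 e)) ⟨hy, hx⟩⟩, rfl⟩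

omit [Finite G] in
theorem pCoreOf_map_le {P : Subgroup G} {G' : Type*} [Group G'] {f : G →* G'} (hf : f.ker ≤ P)
    (hk : IsPGroup p f.ker) : pCoreOf p (P.map f) ≤ (pCoreOf p P).map f := by
  have h1 : (pCoreOf p (P.map f)).comap f ≤ pCoreOf p P := LAE.le_pCoreOf
    ((LAE.isPGroup_pCoreOf _).comap_of_ker_isPGroup f hk)
    ((comap_mono (LAE.pCoreOf_le _)).trans (comap_map_eq_self hf).le)
    ((map_le_iff_le_comap.1 (LAE.le_normalizer_pCoreOf _)).trans (le_normalizer_comap f))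
  intro x hx
  obtain ⟨y, -, rfl⟩ := LAE.pCoreOf_le _ hx
  exact ⟨y, h1 hx, rfl⟩

theorem ctrl_step (hp2 : p ≠ 2) (S : Sylow p G) (hcon : ¬ FpConcl p (zj 0 (S : Subgroup G)))
    (ih : ∀ X : Subgroup G, X ≠ ⊤ → thompsonSubgroupOf 0 (S : Subgroup G) ≤ X →
      ∀ T ≤ (S : Subgroup G) ⊓ X, ∀ g ∈ X, cj g T ≤ S → ActsAs 𝐍(zj 0 (S : Subgroup G)) T g) :
    ∀ T ≤ (S : Subgroup G), ∀ g, cj g T ≤ S → ActsAs 𝐍(zj 0 (S : Subgroup G)) T g := by
  set Z := zj 0 (S : Subgroup G) with hZ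
  set J := thompsonSubgroupOf 0 (S : Subgroup G) with hJ
  have hS := IsSylowIn.of_sylow_top S
  have hNH : 𝐍((S : Subgroup G)) ≤ 𝐍(Z) := normalizer_le_normalizer_zj _
  have hSH : (S : Subgroup G) ≤ 𝐍(Z) := le_normalizer.trans hNH
  have hZS : Z ≤ S := zj_le _
  have hJS : J ≤ S := thompsonSubgroupOf_le _
  have hOS := Core.pCore_le_sylow S
  by_cases hZO : Z ≤ pCore p G
  · by_contra h1
    have h2 : UMax p ⊤ S 𝐍(Z) := ⟨hS, hSH, fun e => h1 fun T _ g _ => .of_mem (e (mem_top g)),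
      fun X h2 h3 g hg => (ih X h3.ne (hJS.trans h2) Z (le_inf hZS (hZS.trans h2)) g hg
        ((cj_mono g hZO).trans ((cj_eq_of_normal g _).le.trans hOS))).mem_normalizer le_rfl⟩
    obtain ⟨h3, h4⟩ := h2.concl_zj hp2 S hZO
    exact hcon ⟨h3, S, hSH, S.isPGroup', h4⟩
  let s : Set (Subgroup G) := {T | T ≤ S ∧ IsSylowIn p (S ⊓ 𝐍(T)) 𝐍(T) ∧
    (S : Subgroup G) ⊓ 𝐂(T) ≤ T ∧ ∃ k ∈ 𝐍(T), ¬ ActsAs 𝐍(Z) T k}
  have hA : ∀ m, (∀ T ∈ s, Nat.card T < m) → ∀ T ≤ (S : Subgroup G), ∀ g, cj g T ≤ S →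
      m ≤ Nat.card T → ActsAs 𝐍(Z) T g := fun m hm T hT g hg =>
    alperin_induction_centric hS (fun _ => True) (fun T hT => exists_extremal' hS hT)
      (fun T g => m ≤ Nat.card T → ActsAs 𝐍(Z) T g)
      (fun T a b _ _ _ _ _ h1 h2 h3 => (h1 h3).mul (h2 (by rwa [card_cj])))
      (fun T U g h1 _ _ _ h2 h3 => (h2 (h3.trans (card_le_of_le' h1))).mono h1)
      (fun T g c hc h1 h2 => (h1 h2).imp fun x hx => ⟨hx.1, fun t ht => by
        rw [hx.2 t ht]
        conv_rhs => rw [← mem_cent_iff.1 hc.2 t ht]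
        group⟩)
      (fun T h1 _ h2 h3 _ x hx h4 => by
        by_contra h5
        exact (hm T ⟨h1, by rwa [top_inf_eq] at h2, h3, x, hx.2, h5⟩).not_ge h4)
      T hT g (mem_top g) hg
  by_contra hbad
  obtain ⟨Q, ⟨hQS, hR, hQc, k₀, hk₀, hk₀'⟩, hm1, hm2⟩ := Transfer.exists_max_lex s (by
    by_contra h1
    exact hbad fun T hT g hg => hA 0 (fun T hT => absurd ⟨T, hT⟩ h1) T hT g hg (Nat.zero_le _))
    (fun T => Nat.card ↥((S : Subgroup G) ⊓ 𝐍(T))) (fun T => Nat.card T)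
  set R := (S : Subgroup G) ⊓ 𝐍(Q) with hRd
  have hQR : Q ≤ R := le_inf hQS le_normalizer
  have hF1 := hA (Nat.card R) fun T hT => (card_lt_card_norm S.isPGroup' (hT.1.lt_of_ne (by
    rintro rfl
    obtain ⟨k, h1, h2⟩ := hT.2.2.2
    exact h2 (.of_mem (hNH h1))))).trans_le (hm1 T hT)
  have hF2 : ∀ T ≤ (S : Subgroup G), (∀ C ≤ 𝐂(T), IsPGroup p C → C ≤ T) →
      Nat.card R ≤ Nat.card ↥((S : Subgroup G) ⊓ 𝐍(T)) →
      (Nat.card R < Nat.card ↥((S : Subgroup G) ⊓ 𝐍(T)) ∨ Nat.card Q < Nat.card T) →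
      ∀ k ∈ 𝐍(T), ActsAs 𝐍(Z) T k := by
    intro T hT hc h1 h2 k hk
    obtain ⟨y, -, h3, h4⟩ := exists_extremal hS T
    have h5 : Nat.card ↥((S : Subgroup G) ⊓ 𝐍(T)) ≤ Nat.card ↥((S : Subgroup G) ⊓ 𝐍(cj y T)) := by
      rw [← card_cj y]
      exact card_le_of_le' (le_inf h3 ((cj_mono y inf_le_right).trans (cj_normalizer y T).le))
    have h6 := (hF1 _ inf_le_left y h3 h1).mono (le_inf hT le_normalizer)
    have h7 : ActsAs 𝐍(Z) (cj y T) (y * k * y⁻¹) := by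
      by_contra h7
      have h8 : cj y T ∈ s := ⟨(cj_mono y (le_inf hT le_normalizer)).trans h3,
        by rwa [top_inf_eq] at h4, by
          rw [← cj_le_cj_iff y⁻¹, cj_inv_cj]
          exact hc _ (by rw [cj_inf, cj_centralizer, cj_inv_cj]; exact inf_le_right)
            (isPGroup_cj _ S.isPGroup'.to_inf_left),
        _, by rw [← cj_normalizer]; exact conj_mem_cj.2 hk, h7⟩
      have h9 := hm1 _ h8
      have h10 := hm2 _ h8 (le_antisymm h9 (h1.trans h5))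
      simp only [card_cj] at h9 h10
      omega
    have h8 := (h6.mul h7).mul (b := y⁻¹) (by
      rw [inv_mul_cancel_right, cj_mul, cj_eq_of_mem_norm hk]; exact h6.inv)
    rwa [inv_mul_cancel_right, inv_mul_cancel_left] at h8
  have hPC : ∀ C ≤ 𝐂(Q), IsPGroup p C → C ≤ Q := fun C => by
    have h1 := hR.inf_of_le_normalizer (N := 𝐂(Q)) (Core.normalizer_le_normalizer_centralizer _)
    rw [inf_eq_right.2 (cent_le_norm Q)] at h1
    exact le_of_sylow_centralizer h1 ((inf_le_inf_right _ inf_le_left).trans hQc)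
  set M := actSub 𝐍(Z) Q with hM
  obtain ⟨P, ⟨hRP, hPQ, hPM⟩, hPmin⟩ := Set.Finite.exists_minimal
    (Set.toFinite {X : Subgroup G | R ≤ X ∧ X ≤ 𝐍(Q) ∧ ¬ X ≤ M})
    ⟨𝐍(Q), inf_le_right, le_rfl, fun e => hk₀' (e hk₀).2⟩
  have hU : UMax p P R M := ⟨hR.of_le hRP hPQ, fun g hg => ⟨hg.2, .of_mem (hSH hg.1)⟩, hPM,
    fun X h1 h2 => by
      by_contra h3
      exact h2.not_ge (hPmin ⟨h1, h2.le.trans hPQ, h3⟩ h2.le)⟩
  have hQp := S.isPGroup'.to_le hQS
  have hQ : pCoreOf p P = Q := by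
    have h1 : Q ≤ pCoreOf p P := LAE.le_pCoreOf hQp (hQR.trans hRP) hPQ
    by_contra h2
    have h3 := hU.syl.le_of_le_normalizer (LAE.isPGroup_pCoreOf P) (LAE.pCoreOf_le P)
      (LAE.le_normalizer_pCoreOf P)
    exact hPM fun g hg => ⟨hPQ hg, (hF2 _ (h3.trans inf_le_left)
      (fun C h4 h5 => (hPC C (h4.trans (cent_anti h1)) h5).trans h1)
      (card_le_of_le' (le_inf inf_le_left (hRP.trans (LAE.le_normalizer_pCoreOf P))))
      (Or.inr (Core.card_lt_of_lt (h1.lt_of_ne (Ne.symm h2)))) g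
      (LAE.le_normalizer_pCoreOf P hg)).mono h1⟩
  by_cases hZQ : Z ≤ Q
  swap
  · obtain ⟨a, h1, h2, h3⟩ := exists_mem_normalizer_of_not_le S.isPGroup' hQS hZS (hQS.trans hSH) hZQ
    obtain ⟨h4, h5⟩ := hU.concl_of_not_le hp2 hQ (fun c hc => ⟨cent_le_norm Q hc.2, 1, one_mem _,
        fun t ht => by rw [mem_cent_iff.1 hc.2 t ht]; simp⟩) (elemAb_zj _).1 (hQS.trans hSH)
      (fun g hg => mem_normalizer_of_forall fun x hx => by
        obtain ⟨h, hh, e⟩ := hg.2.2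
        exact ⟨e x hx.2 ▸ conj_mem_of_mem_normalizer hh hx.1, conj_mem_of_mem_normalizer hg.2.1 hx.2⟩)
      h1 ⟨hZS h1, h3⟩ h2
    exact hcon ⟨(h4.congr inf_le_right (inf_le_left.trans hPQ) fun g hg => hg.2.2).mono le_rfl
      inf_le_left, Q, hQS.trans hSH, hQp, h5.congr fun g hg => hg.2.2⟩
  have hMH : M ≤ 𝐍(Z) := fun g hg => hg.2.mem_normalizer hZQ
  set O := pCore p G with hO
  have hOQ : O ≤ Q := by
    by_contra h1
    obtain ⟨d, h2, h3, h4⟩ := exists_mem_normalizer_of_not_le S.isPGroup' hQS hOS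
      le_normalizer_of_normal h1
    exact h3 (hQ ▸ LAE.le_pCoreOf (Q := O ⊓ 𝐍(Q)) (Core.isPGroup_pCore p G).to_inf_left
      ((inf_le_inf_right _ hOS).trans hRP) ((le_inf le_normalizer_of_normal
        (hPQ.trans le_normalizer)).trans inf_normalizer_le_normalizer_inf) ⟨h2, h4⟩)
  have hK : ∀ D : Subgroup G, IsPGroup p D → P ≤ 𝐍(D) → J ≤ 𝐍(D) → D ≤ O := fun D h1 h2 h3 => by
    by_contra h4
    exact hPM fun g hg => ⟨hPQ hg, ih 𝐍(D) (fun e => h4 (by
        have := normalizer_eq_top_iff.1 e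
        exact Core.le_pCore h1)) h3 Q (le_inf hQS (hQR.trans (hRP.trans h2))) g (h2 hg)
      ((cj_eq_of_mem_norm (hPQ hg)).le.trans hQS)⟩
  have hRS : R < S := inf_le_left.lt_of_ne fun e =>
    hZO (hZQ.trans (hK Q hQp hPQ (hJS.trans (e.ge.trans inf_le_right))))
  set f := QuotientGroup.mk' O with hf
  have hk : f.ker = O := QuotientGroup.ker_mk' O
  have hkp : IsPGroup p f.ker := (Core.isPGroup_pCore p G).to_le hk.le
  have hkQ : f.ker ≤ Q := hk.le.trans hOQ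
  have hQ' : pCoreOf p (P.map f) ≤ Q.map f := hQ ▸ pCoreOf_map_le (hkQ.trans (hQR.trans hRP)) hkp
  have hPQ' : P.map f ≤ 𝐍(Q.map f) := (map_mono hPQ).trans (le_normalizer_map f)
  set V := omegaOne p (Q.map f ⊓ 𝐂(Q.map f)) with hV
  have hVQ : V ≤ Q.map f ⊓ 𝐂(Q.map f) := omegaOne_le _
  have hPV : P.map f ≤ 𝐍(V) := ((le_inf hPQ' (hPQ'.trans
    (Core.normalizer_le_normalizer_centralizer _))).trans inf_normalizer_le_normalizer_inf).trans
    (normalizer_le_normalizer_omegaOne _)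
  have hMH' : (P ⊓ M).map f ≤ (𝐍(Z)).map f := map_mono (inf_le_right.trans hMH)
  rcases (hU.map (hkQ.trans hQR)).thompson_le_or hp2 (V := V) (Y := Z.map f ⊓ V)
    (elemAb_omegaOne (isMulCommutative_inf_centralizer _)) (hVQ.trans (inf_le_left.trans (map_mono hQR)))
    hPV (hQ'.trans (le_centralizer_iff.1 (hVQ.trans inf_le_right))) inf_le_right
    ((inf_le_inf hPV (hMH'.trans (le_normalizer_map f))).trans
      ((inf_comm _ _).le.trans inf_normalizer_le_normalizer_inf)) (fun h1 => by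
      have h2 := hK ((Z.map f ⊓ V).comap f) (((S.isPGroup'.to_le hZS).map f).to_inf_left.comap_of_ker_isPGroup
        f hkp) ((map_le_iff_le_comap.1 h1).trans (le_normalizer_comap f)) (fun g hg =>
          le_normalizer_comap f (cent_le_norm _ (cent_anti inf_le_left (show f g ∈ 𝐂(Z.map f) by
            rintro _ ⟨z, hz, rfl⟩
            rw [← map_mul, ← map_mul, (zj_le_center _ hz).2 g hg]))))
      obtain ⟨x, hx, hxp⟩ := Core.exists_mem_orderOf_eq_of_isPGroup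
        ((S.isPGroup'.to_le hZS).map f).to_inf_left (inf_centralizer_ne_bot_of_le_normalizer
          (hQp.map f) (map_mono hZQ) ((map_mono (hQS.trans hSH)).trans (le_normalizer_map f))
          (fun e => hZO (((Subgroup.map_eq_bot_iff _).1 e).trans hk.le)))
      obtain ⟨y, rfl⟩ := QuotientGroup.mk'_surjective O x
      have h3 : f y = 1 := (hk.ge (h2 ⟨hx.1, mem_omegaOne ⟨map_mono hZQ hx.1, hx.2⟩
        (orderOf_dvd_iff_pow_eq_one.1 hxp.dvd)⟩) : y ∈ f.ker)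
      rw [h3, orderOf_one] at hxp
      exact hp.out.one_lt.ne hxp) with h1 | ⟨h1, h2⟩
  swap
  · exact hcon ⟨h1.pull (inf_le_right.trans hMH') inf_le_left, Q, hQS.trans hSH, hQp,
      h2.pull (inf_le_right.trans hMH') (hVQ.trans inf_le_left) hkQ⟩
  replace h1 := h1.trans hQ'
  set W := (thompsonSubgroupOf 0 (R.map f)).comap f with hW
  have hWQ : W ≤ Q := (comap_mono h1).trans (comap_map_eq_self hkQ).le
  have hPW : P ≤ 𝐍(W) := by
    rw [hW, ← thompsonSubgroupOf_eq_of_le (map_mono hQR) h1]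
    exact (map_le_iff_le_comap.1 (hPQ'.trans (normalizer_le_normalizer_thompsonSubgroupOf _))).trans
      (le_normalizer_comap f)
  have hRW : 𝐍(R) ≤ 𝐍(W) := (map_le_iff_le_comap.1 ((le_normalizer_map f).trans
    (normalizer_le_normalizer_thompsonSubgroupOf _))).trans (le_normalizer_comap f)
  have hWC : ∀ C ≤ 𝐂(W), IsPGroup p C → C ≤ W := fun C => by
    obtain ⟨S₁, h2, h3⟩ := exists_isSylowIn_ge hR.pgroup (hRP.trans hPW)
    have h4 := h2.inf_of_le_normalizer (N := 𝐂(W)) (Core.normalizer_le_normalizer_centralizer _)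
    rw [inf_eq_right.2 (cent_le_norm W)] at h4
    have h5 : ∀ d ∈ R, d ∈ 𝐂(W) → d ∈ W := fun d h5 h6 =>
      mem_thompsonSubgroupOf_of_centralizes (mem_map_of_mem f h5) (fun x hx => by
        obtain ⟨y, rfl⟩ := QuotientGroup.mk'_surjective O x
        rw [← map_mul, ← map_mul, h6 y hx]) (pow_zero _)
    refine le_of_sylow_centralizer h4 fun d hd => h5 d (hQR ?_) hd.2
    by_contra h6
    obtain ⟨e, h7, h8, h9⟩ := exists_mem_normalizer_of_not_le (D := S₁ ⊓ 𝐂(W)) h2.pgroup (hQR.trans h3)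
      inf_le_left ((le_inf (hQR.trans (h3.trans le_normalizer)) ((hQR.trans (hRP.trans hPW)).trans
        (Core.normalizer_le_normalizer_centralizer _))).trans inf_normalizer_le_normalizer_inf)
      fun h => h6 (h hd)
    exact h8 (hWQ (h5 e ((hR.eq_of_le h2.pgroup.to_inf_left (le_inf h3 inf_le_right) inf_le_right).le
      ⟨h7.1, h9⟩) h7.2))
  have hlt := (card_lt_card_norm S.isPGroup' hRS).trans_le (card_le_of_le' (inf_le_inf_left _ hRW))
  refine hPM fun g hg => ⟨hPQ hg, .of_mem ?_⟩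
  obtain ⟨h, hh, h2⟩ := hF2 W (hWQ.trans hQS) hWC hlt.le (Or.inl hlt) g (hPW hg)
  have hc : h⁻¹ * g ∈ 𝐂(W) := mem_cent_iff.2 fun t ht => by
    calc _ = h⁻¹ * (g * t * g⁻¹) * h := by group
      _ = t := by rw [← h2 t ht]; group
  obtain ⟨k, hk'⟩ := (hQp.to_le hWQ).exists_card_eq
  have h3 : (h⁻¹ * g) ^ p ^ k ∈ 𝐂(Z) := fun z hz => (pow_mem_centralizer_of_stab hc (fun v hv => by
      rw [← hk']; exact congrArg Subtype.val (pow_card_eq_one' (x := (⟨v, hv⟩ : W))))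
    (hWC (𝐂(W) ⊓ cj h⁻¹ Q) inf_le_left (isPGroup_cj _ hQp).to_inf_right ⟨by
      rw [mul_assoc, mul_assoc]
      refine mul_mem hc ?_
      rw [← mul_assoc]
      exact conj_mem_of_mem_normalizer (Core.normalizer_le_normalizer_centralizer _
        (hPW (hRP (hQR (hZQ hz))))) (inv_mem hc), mem_cj.2 (by
      convert mul_mem (conj_mem_of_mem_normalizer (hPQ hg) (hZQ hz))
        (hZQ (conj_mem_of_mem_normalizer hh (inv_mem hz))) using 1
      group)⟩)).symm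
  obtain ⟨a, b, ha, ⟨m, rfl⟩, ⟨j, hj⟩, hb, e⟩ := Transfer.exists_p_part (p := p) (h⁻¹ * g)
  rw [← mul_inv_cancel_left h g, e]
  refine mul_mem hh (mul_mem (hSH (hQS (hWQ (hWC _ (zpowers_le.2 (zpowers_le.2 hc ha))
    (isPGroup_zpowers_of_pow hj) (mem_zpowers a))))) (cent_le_norm Z
    (LAE.mem_of_pow_mem_of_coprime (hb.pow_right k) ?_)))
  simp only [← zpow_natCast, ← zpow_mul]
  rw [mul_comm, zpow_mul, zpow_natCast]
  exact zpow_mem h3 m

theorem thompson_eq_of_pgroup {e : ℕ} (S : Sylow p G) {R : Subgroup G} (hR : IsPGroup p R)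
    (h : thompsonSubgroupOf e (S : Subgroup G) ≤ R) :
    thompsonSubgroupOf e R = thompsonSubgroupOf e (S : Subgroup G) := by
  obtain ⟨g, -, h1⟩ := (IsSylowIn.of_sylow_top S).exists_cj_le hR le_top
  rw [← cj_le_cj_iff g⁻¹, cj_inv_cj] at h1
  have h2 : cj g⁻¹ (thompsonSubgroupOf e (S : Subgroup G)) = thompsonSubgroupOf e (cj g⁻¹ S) :=
    map_thompsonSubgroupOf (MulAut.conj g⁻¹).injective _
  have h3 : thompsonSubgroupOf e (S : Subgroup G) = thompsonSubgroupOf e (cj g⁻¹ S) := by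
    refine Core.eq_of_le_of_card_le (thompsonSubgroupOf_le_iff.2 fun A hA => le_thompsonSubgroupOf
      (mem_maxElemIn_of_card_le (map_mem_maxElemIn (MulAut.conj g⁻¹).injective hA)
        ((le_thompsonSubgroupOf hA).trans (h.trans h1)) hA.2.1 (card_cj g⁻¹ A).le)) ?_
    rw [← h2, card_cj]
  rw [h3] at h ⊢
  exact thompsonSubgroupOf_eq_of_le h1 h

theorem ctrl_of_not_concl (hp2 : p ≠ 2) (n : ℕ) : ∀ (G : Type u) [Group G] [Finite G],
    Nat.card G = n → ∀ S : Sylow p G, ¬ FpConcl p (zj 0 (S : Subgroup G)) →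
    ∀ T ≤ (S : Subgroup G), ∀ g, cj g T ≤ S → ActsAs 𝐍(zj 0 (S : Subgroup G)) T g := by
  induction n using Nat.strong_induction_on with
  | _ n ih =>
  intro G _ _ hn S hcon
  refine ctrl_step hp2 S hcon fun X hX hJ T hT g hg hgT => ?_
  obtain ⟨R, hR, hSR⟩ := exists_isSylowIn_ge (S.isPGroup'.to_inf_left (K := X)) inf_le_right
  have hZ : (zj 0 (hR.toSylow : Subgroup X)).map X.subtype = zj 0 (S : Subgroup G) := by
    rw [map_zj X.subtype_injective, hR.map_toSylow, zj_def, zj_def, centerThompsonOf, centerThompsonOf,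
      thompson_eq_of_pgroup S hR.pgroup (le_trans (le_inf (thompsonSubgroupOf_le _) hJ) hSR)]
  have hN : 𝐍(zj 0 (hR.toSylow : Subgroup X)) ≤ (𝐍(zj 0 (S : Subgroup G))).comap X.subtype :=
    map_le_iff_le_comap.1 (hZ ▸ le_normalizer_map _)
  obtain ⟨h, hh, h1⟩ := ih _ (hn ▸ Core.card_lt_of_ne_top hX) X rfl hR.toSylow
    (fun ⟨h1, B, h2, h3, h4⟩ => hcon ⟨h1.push X.subtype_injective hN (map_le_iff_le_comap.1 hZ.le),
      B.map X.subtype, map_le_iff_le_comap.2 (h2.trans hN), h3.map _,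
      h4.push X.subtype_injective hN (le_comap_map _ _)⟩)
    (T.subgroupOf X) (fun x hx => hR.mem_toSylow.2 (hSR (hT hx))) ⟨g, hg⟩
    (cj_le_iff.2 fun x hx => hR.mem_toSylow.2 (hSR ⟨cj_le_iff.1 hgT _ hx, (⟨g, hg⟩ * x * ⟨g, hg⟩⁻¹ : X).2⟩))
  exact ⟨h, hN hh, fun t ht => congrArg Subtype.val (h1 ⟨t, (hT ht).2⟩ ht)⟩

end CfsgLib.ZJ
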